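import Mathlib

/-!
# Project SNA (S2222): definitions

Sylow 2-subgroups of `A_n` (`n ≥ 6`) are self-normalizing; hence subgroups of odd index are pronormal.
The Sylow 2-subgroup is built recursively, WITHOUT any counting:
* `lift K ≤ Perm (β × Bool)`: all permutations of `β × Bool` that cover (on first coordinates) an
  element of `K ≤ Perm β`  (this is `C₂ ≀ K`);
* `addPoint K ≤ Perm (α ⊕ Unit)`: `K` acting on `α`, fixing the extra point.
-/

set_option autoImplicit false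

namespace Cfsg.Agent.Lib.Helper18.SNA

open Equiv

/-- `H` is self-normalizing inside the subgroup `A` (think `A = ⊤` or `A = alternatingGroup α`):
every element of `A` normalizing `H` lies in `H`. -/
def SelfNormIn {G : Type*} [Group G] (A H : Subgroup G) : Prop :=
  ∀ g ∈ A, (∀ h : G, h ∈ H ↔ g * h * g⁻¹ ∈ H) → g ∈ H

/-- `H` moves every point. -/
def MovesAll {α : Type*} (H : Subgroup (Perm α)) : Prop :=
  ∀ x : α, ∃ σ ∈ H, σ x ≠ x

/-- the permutations of `β × Bool` covering an element of `K`  (the wreath product `C₂ ≀ K`) -/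
def lift {β : Type*} (K : Subgroup (Perm β)) : Subgroup (Perm (β × Bool)) where
  carrier := {σ | ∃ τ ∈ K, ∀ x : β × Bool, (σ x).1 = τ x.1}
  one_mem' := ⟨1, K.one_mem, fun _ => rfl⟩
  mul_mem' := by
    rintro σ σ' ⟨τ, hτ, h⟩ ⟨τ', hτ', h'⟩
    exact ⟨τ * τ', K.mul_mem hτ hτ', fun x => by simp [Perm.mul_apply, h, h']⟩
  inv_mem' := by
    rintro σ ⟨τ, hτ, h⟩
    refine ⟨τ⁻¹, K.inv_mem hτ, fun x => ?_⟩
    have h1 := h (σ⁻¹ x)
    simp at h1
    rw [h1]; simp

theorem mem_lift {β : Type*} {K : Subgroup (Perm β)} {σ : Perm (β × Bool)} :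
    σ ∈ lift K ↔ ∃ τ ∈ K, ∀ x : β × Bool, (σ x).1 = τ x.1 := Iff.rfl

/-- the diagonal lift of `τ : Perm β` to `β × Bool` (always even, always in `lift K` for `τ ∈ K`) -/
def diag {β : Type*} (τ : Perm β) : Perm (β × Bool) :=
  Equiv.prodCongr τ (Equiv.refl Bool)

@[simp] theorem diag_apply {β : Type*} (τ : Perm β) (x : β × Bool) : diag τ x = (τ x.1, x.2) := rfl

/-- the swap of the two points of the fibre over `b` -/
def fswap {β : Type*} [DecidableEq β] (b : β) : Perm (β × Bool) :=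
  swap (b, false) (b, true)

/-- `K` acting on `α ⊕ Unit`, fixing the extra point -/
def addPoint {α : Type*} (K : Subgroup (Perm α)) : Subgroup (Perm (α ⊕ Unit)) :=
  (K.prod (⊤ : Subgroup (Perm Unit))).map (Perm.sumCongrHom α Unit)

theorem mem_addPoint {α : Type*} {K : Subgroup (Perm α)} {σ : Perm (α ⊕ Unit)} :
    σ ∈ addPoint K ↔ ∃ τ ∈ K, σ = Perm.sumCongr τ 1 := by
  unfold addPoint
  rw [Subgroup.mem_map]
  constructor
  · rintro ⟨⟨τ, u⟩, h, rfl⟩
    refine ⟨τ, (Subgroup.mem_prod.mp h).1, ?_⟩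
    have hu : u = 1 := Subsingleton.elim _ _
    rw [hu]
    rfl
  · rintro ⟨τ, hτ, rfl⟩
    exact ⟨(τ, 1), Subgroup.mem_prod.mpr ⟨hτ, Subgroup.mem_top _⟩, rfl⟩

end Cfsg.Agent.Lib.Helper18.SNA
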