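import Mathlib
import Cfsg.Agent.Lib.Helper18.SNA.Defs

set_option autoImplicit false

namespace Cfsg.Agent.Lib.Helper18.SNA

open Equiv

theorem addPoint_isPGroup {α : Type*} (K : Subgroup (Perm α)) (hK : IsPGroup 2 K) :
    IsPGroup 2 (addPoint K) := by
  rintro ⟨σ, hσ⟩
  obtain ⟨τ, hτ, rfl⟩ := mem_addPoint.mp hσ
  obtain ⟨k, hk⟩ := hK ⟨τ, hτ⟩
  refine ⟨k, Subtype.ext ?_⟩
  have hk' : τ ^ 2 ^ k = 1 := by
    have := congrArg Subtype.val hk
    simpa using this
  have hpow : ∀ m : ℕ, (Perm.sumCongr τ (1 : Perm Unit)) ^ m = Perm.sumCongr (τ ^ m) 1 := by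
    intro m
    induction m with
    | zero => simp
    | succ m ih => rw [pow_succ, ih, pow_succ, Perm.sumCongr_mul]; simp
  simp only [SubgroupClass.coe_pow, OneMemClass.coe_one]
  rw [hpow, hk']
  simp

theorem addPoint_le_alt {α : Type*} [DecidableEq α] [Fintype α] (K : Subgroup (Perm α))
    (hK : K ≤ alternatingGroup α) : addPoint K ≤ alternatingGroup (α ⊕ Unit) := by
  intro σ hσ
  obtain ⟨τ, hτ, rfl⟩ := mem_addPoint.mp hσ
  rw [Perm.mem_alternatingGroup, Perm.sign_sumCongr]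
  have := hK hτ
  rw [Perm.mem_alternatingGroup] at this
  simp [this]

theorem sumCongr_mem_alt {α : Type*} [DecidableEq α] [Fintype α] (τ : Perm α)
    (h : Perm.sumCongr τ (1 : Perm Unit) ∈ alternatingGroup (α ⊕ Unit)) : τ ∈ alternatingGroup α := by
  rw [Perm.mem_alternatingGroup, Perm.sign_sumCongr] at h
  rw [Perm.mem_alternatingGroup]
  simpa using h

end Cfsg.Agent.Lib.Helper18.SNA
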