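import Mathlib
import Cfsg.Agent.Lib.Helper18.SNA.Defs

set_option autoImplicit false

set_option linter.unusedVariables false

namespace Cfsg.Agent.Lib.Helper18.SNA

open Equiv

theorem fswap_mem_lift {β : Type*} [DecidableEq β] (K : Subgroup (Perm β)) (b : β) :
    fswap b ∈ lift K := by
  refine ⟨1, K.one_mem, fun x => ?_⟩
  unfold fswap
  rw [Perm.one_apply, swap_apply_def]
  split_ifs with h1 h2
  · rw [h1]
  · rw [h2]
  · rfl

theorem diag_mem_lift {β : Type*} (K : Subgroup (Perm β)) (τ : Perm β) (hτ : τ ∈ K) :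
    diag τ ∈ lift K := ⟨τ, hτ, fun _ => rfl⟩

theorem diag_mem_alt {β : Type*} [DecidableEq β] [Fintype β] (τ : Perm β) :
    diag τ ∈ alternatingGroup (β × Bool) := by
  rw [Perm.mem_alternatingGroup]
  have : diag τ = Equiv.prodCongrLeft (fun _ : Bool => τ) := by
    ext x <;> rfl
  rw [this, Perm.sign_prodCongrLeft]
  simp

theorem fswap_fswap_mem_alt {β : Type*} [DecidableEq β] [Fintype β] (b b' : β) (h : b ≠ b') :
    fswap b * fswap b' ∈ alternatingGroup (β × Bool) := by
  rw [Perm.mem_alternatingGroup, map_mul]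
  unfold fswap
  rw [Perm.sign_swap (by simp), Perm.sign_swap (by simp)]
  rfl

theorem lift_movesAll {β : Type*} [DecidableEq β] (K : Subgroup (Perm β)) : MovesAll (lift K) := by
  rintro ⟨b, c⟩
  refine ⟨fswap b, fswap_mem_lift K b, ?_⟩
  unfold fswap
  cases c <;> simp

theorem lift_alt_movesAll {β : Type*} [DecidableEq β] [Fintype β] (hβ : 2 ≤ Fintype.card β)
    (K : Subgroup (Perm β)) : MovesAll (lift K ⊓ alternatingGroup (β × Bool)) := by
  rintro ⟨b, c⟩
  obtain ⟨b', hb'⟩ : ∃ b', b' ≠ b := by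
    have : Nontrivial β := Fintype.one_lt_card_iff_nontrivial.mp (by omega)
    exact exists_ne b
  refine ⟨fswap b * fswap b', ⟨(lift K).mul_mem (fswap_mem_lift K b) (fswap_mem_lift K b'),
    fswap_fswap_mem_alt b b' hb'.symm⟩, ?_⟩
  unfold fswap
  rw [Perm.mul_apply, swap_apply_of_ne_of_ne (a := (b', false)) (b := (b', true)) (by simp [hb'.symm])
    (by simp [hb'.symm])]
  cases c <;> simp

end Cfsg.Agent.Lib.Helper18.SNA
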