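import Mathlib
import Cfsg.Agent.Lib.Helper18.SNA.Defs
import Cfsg.Agent.Lib.Helper18.SNA.EL
import Cfsg.Agent.Lib.Helper18.SNA.AP
import Cfsg.Agent.Lib.Helper24.SNAF2
import Cfsg.Agent.Lib.Helper24.SNAF3
import Cfsg.Agent.Lib.Helper22.SNACV
import Cfsg.Agent.Lib.Helper22.SNALP
import Cfsg.Agent.Lib.Helper20.SNAAS
import Cfsg.Agent.Lib.Helper25.SNATR

/-!
# Project SNA: a self-normalizing 2-subgroup of `A_n`, `n ≥ 6` (assembly of the pieces)
-/

set_option autoImplicit false

namespace Cfsg.Agent.Lib.Helper18.SNA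

open Equiv
open Cfsg.Agent.Lib.Helper24.SNA (fiber_of_fswap fiber_of_fswap_fswap)
open Cfsg.Agent.Lib.Helper22.SNA (mem_lift_of_covers lift_isPGroup)
open Cfsg.Agent.Lib.Helper20.SNA (addPoint_selfNorm)
open Cfsg.Agent.Lib.Helper25.SNA (transport_alt)

theorem lift_selfNorm {β : Type*} [DecidableEq β] (K : Subgroup (Perm β)) (hK : SelfNormIn ⊤ K) :
    SelfNormIn ⊤ (lift K) := by
  intro g _ hg
  have hg' : ∀ h, h ∈ lift K → g⁻¹ * h * g ∈ lift K := by
    intro h hh
    rw [hg]
    simpa [mul_assoc] using hh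
  apply mem_lift_of_covers K hK g
  · exact fiber_of_fswap K g (fun b => (hg _).mp (fswap_mem_lift K b))
      (fun b => hg' _ (fswap_mem_lift K b))
  · exact fun τ hτ => (hg _).mp (diag_mem_lift K τ hτ)
  · exact fun τ hτ => hg' _ (diag_mem_lift K τ hτ)

theorem lift_alt_selfNorm {β : Type*} [DecidableEq β] [Fintype β] (hβ : 3 ≤ Fintype.card β)
    (K : Subgroup (Perm β)) (hK : SelfNormIn ⊤ K) :
    SelfNormIn (alternatingGroup (β × Bool)) (lift K ⊓ alternatingGroup (β × Bool)) := by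
  intro g hgA hg
  have hg' : ∀ h, h ∈ lift K ⊓ alternatingGroup (β × Bool) →
      g⁻¹ * h * g ∈ lift K ⊓ alternatingGroup (β × Bool) := by
    intro h hh
    rw [hg]
    simpa [mul_assoc] using hh
  refine ⟨?_, hgA⟩
  apply mem_lift_of_covers K hK g
  · exact fiber_of_fswap_fswap hβ K g
      (fun b b' hbb => ((hg _).mp ⟨(lift K).mul_mem (fswap_mem_lift K b) (fswap_mem_lift K b'),
        fswap_fswap_mem_alt b b' hbb⟩).1)
      (fun b b' hbb => (hg' _ ⟨(lift K).mul_mem (fswap_mem_lift K b) (fswap_mem_lift K b'),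
        fswap_fswap_mem_alt b b' hbb⟩).1)
  · exact fun τ hτ => ((hg _).mp ⟨diag_mem_lift K τ hτ, diag_mem_alt τ⟩).1
  · exact fun τ hτ => (hg' _ ⟨diag_mem_lift K τ hτ, diag_mem_alt τ⟩).1

theorem exists_sym (n : ℕ) : ∃ (α : Type) (_ : Fintype α) (_ : DecidableEq α) (H : Subgroup (Perm α)),
    Fintype.card α = n ∧ IsPGroup 2 H ∧ SelfNormIn ⊤ H ∧ (Even n → MovesAll H) := by
  induction n using Nat.strong_induction_on with
  | _ n ih =>
    rcases Nat.eq_zero_or_pos n with rfl | hpos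
    · refine ⟨Empty, inferInstance, inferInstance, ⊤, by simp, ?_, ?_, ?_⟩
      · intro g
        exact ⟨0, Subsingleton.elim _ _⟩
      · intro g _ _
        exact Subgroup.mem_top g
      · intro _ x
        exact x.elim
    · rcases Nat.even_or_odd' n with ⟨m, rfl | rfl⟩
      · obtain ⟨β, _, _, K, hβ, h2, hs, _⟩ := ih m (by omega)
        refine ⟨β × Bool, inferInstance, inferInstance, lift K, ?_, lift_isPGroup K h2,
          lift_selfNorm K hs, fun _ => lift_movesAll K⟩
        simp [hβ]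
        ring
      · obtain ⟨α, _, _, K, hα, h2, hs, hm⟩ := ih (2 * m) (by omega)
        refine ⟨α ⊕ Unit, inferInstance, inferInstance, addPoint K, ?_, addPoint_isPGroup K h2,
          addPoint_selfNorm ⊤ K ⊤ (fun _ _ => Subgroup.mem_top _) hs (hm (by simp)), ?_⟩
        · simp [hα]
        · intro h
          exact absurd h (by simp)

theorem exists_alt_even (m : ℕ) (hm : 3 ≤ m) :
    ∃ (α : Type) (_ : Fintype α) (_ : DecidableEq α) (H : Subgroup (Perm α)),
    Fintype.card α = 2 * m ∧ IsPGroup 2 H ∧ H ≤ alternatingGroup α ∧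
      SelfNormIn (alternatingGroup α) H ∧ MovesAll H := by
  obtain ⟨β, _, _, K, hβ, h2, hs, _⟩ := exists_sym m
  refine ⟨β × Bool, inferInstance, inferInstance, lift K ⊓ alternatingGroup (β × Bool), ?_,
    (lift_isPGroup K h2).to_le inf_le_left, inf_le_right,
    lift_alt_selfNorm (by omega) K hs, lift_alt_movesAll (by omega) K⟩
  simp [hβ]
  ring

theorem exists_alt (n : ℕ) (hn : 6 ≤ n) :
    ∃ (α : Type) (_ : Fintype α) (_ : DecidableEq α) (H : Subgroup (Perm α)),
    Fintype.card α = n ∧ IsPGroup 2 H ∧ H ≤ alternatingGroup α ∧ SelfNormIn (alternatingGroup α) H := by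
  rcases Nat.even_or_odd' n with ⟨m, rfl | rfl⟩
  · obtain ⟨α, i1, i2, H, h1, h2, h3, h4, _⟩ := exists_alt_even m (by omega)
    exact ⟨α, i1, i2, H, h1, h2, h3, h4⟩
  · obtain ⟨α, _, _, K, hα, h2, hle, hs, hm⟩ := exists_alt_even m (by omega)
    refine ⟨α ⊕ Unit, inferInstance, inferInstance, addPoint K, ?_, addPoint_isPGroup K h2,
      addPoint_le_alt K hle,
      addPoint_selfNorm (alternatingGroup α) K (alternatingGroup (α ⊕ Unit))
        (fun τ h => sumCongr_mem_alt τ h) hs hm⟩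
    simp [hα]

/-- For `n ≥ 6` the alternating group `A_n` has a self-normalizing 2-subgroup
(hence its Sylow 2-subgroups are self-normalizing). -/
theorem exists_selfNorm_two_subgroup (n : ℕ) (hn : 6 ≤ n) :
    ∃ Q : Subgroup (alternatingGroup (Fin n)), IsPGroup 2 Q ∧
      Subgroup.normalizer (Q : Set (alternatingGroup (Fin n))) ≤ Q := by
  obtain ⟨α, _, _, H, hα, h2, hle, hs⟩ := exists_alt n hn
  exact transport_alt n hα H h2 hle hs

end Cfsg.Agent.Lib.Helper18.SNA
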