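import Mathlib
import Cfsg.Prelude.Def_HallClasses
import Cfsg.Agent.Lib.Helper18.SNA.Exist
import Cfsg.Agent.Lib.Helper27.SNASY
import Cfsg.Agent.Lib.Helper27.SNAPN
import Cfsg.Agent.Lib.Helper25.SNASL
import Cfsg.Agent.Lib.Helper13.SNAA5

/-!
# Project SNA: subgroups of odd index of `A_n` (`n ≥ 5`) are pronormal
-/

set_option autoImplicit false

namespace Cfsg.Agent.Lib.Helper18.SNA

open Cfsg.Agent.Lib.Helper27.SNA (sylow_selfNorm_of_exists isPronormal_of_sylow_le)
open Cfsg.Agent.Lib.Helper25.SNA (exists_sylow_le_of_not_dvd_index)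
open Cfsg.Agent.Lib.Helper13.SNA (alt5_pronormal)

theorem alt_odd_index_pronormal (n : ℕ) (hn : 5 ≤ n)
    (H : Subgroup (alternatingGroup (Fin n))) (hH : Odd H.index) : Cfsg.IsPronormal H := by
  rcases Nat.lt_or_ge n 6 with h6 | h6
  · obtain rfl : n = 5 := by omega
    exact alt5_pronormal H hH
  · obtain ⟨Q, hQ, hQN⟩ := exists_selfNorm_two_subgroup n h6
    have : Fact (Nat.Prime 2) := ⟨Nat.prime_two⟩
    obtain ⟨P, hP⟩ := exists_sylow_le_of_not_dvd_index 2 H (by
      intro h2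
      exact (Nat.not_even_iff_odd.mpr hH) (even_iff_two_dvd.mpr h2))
    exact isPronormal_of_sylow_le 2 H P hP ((sylow_selfNorm_of_exists 2 Q hQ hQN P).trans hP)

end Cfsg.Agent.Lib.Helper18.SNA
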